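import Groth.Agent.H63.FibreCount
import Mathlib.AlgebraicGeometry.Morphisms.FlatMono
import Mathlib.AlgebraicGeometry.Morphisms.Etale
import Mathlib.AlgebraicGeometry.Morphisms.Proper
import Mathlib.AlgebraicGeometry.Limits
import Mathlib.AlgebraicGeometry.ResidueField
import Mathlib.FieldTheory.IsAlgClosed.AlgebraicClosure

/-!
A finite étale morphism of constant rank becomes a trivial cover after a finite étale surjective
base change.  Splittings are recorded through field-valued points.
-/

set_option autoImplicit false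
set_option backward.isDefEq.respectTransparency false
set_option linter.style.haveILetI false

universe u

open CategoryTheory CategoryTheory.Limits AlgebraicGeometry

namespace Groth.Agent.Lib.EtSplit.Basic

/-- `σ` is a family of sections of `p` through which every field-valued point passes exactly once. -/
def Split {Z Y : Scheme.{u}} {n : ℕ} (p : Z ⟶ Y) (σ : Fin n → (Y ⟶ Z)) : Prop :=
  (∀ i, σ i ≫ p = 𝟙 Y) ∧
    ∀ (K : Type u) [Field K] (z : Spec (CommRingCat.of K) ⟶ Z), ∃! i, z ≫ p ≫ σ i = z

theorem exists_lift_of_apply_mem {K : Type u} [Field K] {V W : Scheme.{u}}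
    (f : V ⟶ W) [IsOpenImmersion f] (z : Spec (CommRingCat.of K) ⟶ W)
    (h : z (IsLocalRing.closedPoint K) ∈ Set.range f) : ∃ w, w ≫ f = z := by
  refine ⟨IsOpenImmersion.lift f z ?_, IsOpenImmersion.lift_fac f z _⟩
  rintro _ ⟨s, rfl⟩
  have : s = IsLocalRing.closedPoint K := Subsingleton.elim (α := PrimeSpectrum K) _ _
  rw [this]
  exact h

theorem iso_of_split {Z Y : Scheme.{u}} {n : ℕ} (p : Z ⟶ Y) [Etale p]
    (σ : Fin n → (Y ⟶ Z)) (h : Split p σ) :
    ∃ e : Z ≅ ∐ (fun _ : Fin n => Y),
      ∀ i, Sigma.ι (fun _ : Fin n => Y) i ≫ e.inv ≫ p = 𝟙 Y := by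
  obtain ⟨h1, h2⟩ := h
  have hopen : ∀ i, IsOpenImmersion (σ i) := fun i => by
    haveI : Etale (σ i ≫ p) := by rw [h1 i]; infer_instance
    haveI : Etale (σ i) := Etale.of_comp (σ i) p
    haveI : Mono (σ i) := mono_of_mono_fac (h1 i)
    exact IsOpenImmersion.of_flat_of_mono (σ i)
  have hmem : ∀ (x : Z) (i : Fin n), x ∈ Set.range (σ i) →
      Z.fromSpecResidueField x ≫ p ≫ σ i = Z.fromSpecResidueField x := by
    intro x i hx
    haveI := hopen i
    obtain ⟨w, hw⟩ := exists_lift_of_apply_mem (K := Z.residueField x) (σ i)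
      (Z.fromSpecResidueField x) ((Scheme.fromSpecResidueField_apply x _).symm ▸ hx)
    conv_rhs => rw [← hw]
    conv_lhs => rw [← hw]
    simp [reassoc_of% (h1 i)]
  have hdis : Pairwise (fun i j => Disjoint (Set.range (σ i)) (Set.range (σ j))) := by
    intro i j hij
    rw [Set.disjoint_left]
    intro x hi hj
    exact hij ((h2 (Z.residueField x) (Z.fromSpecResidueField x)).unique (hmem x i hi) (hmem x j hj))
  haveI : IsOpenImmersion (Sigma.desc σ) := isOpenImmersion_sigmaDesc (fun _ => Y) σ hdis
  haveI : Surjective (Sigma.desc σ) := ⟨fun x => by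
    obtain ⟨i, hi, -⟩ := h2 (Z.residueField x) (Z.fromSpecResidueField x)
    refine ⟨Sigma.ι (fun _ : Fin n => Y) i (p x), ?_⟩
    rw [← Scheme.Hom.comp_apply, Sigma.ι_desc]
    have hx : Z.fromSpecResidueField x (IsLocalRing.closedPoint _) = x :=
      Scheme.fromSpecResidueField_apply _ _
    have := congrArg (fun m => m (IsLocalRing.closedPoint (Z.residueField x))) hi
    rw [Scheme.Hom.comp_apply, Scheme.Hom.comp_apply] at this
    exact ((congrArg (fun y => σ i (p y)) hx).symm.trans this).trans hx⟩
  haveI : IsIso (Sigma.desc σ) :=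
    (isIso_iff_isOpenImmersion_and_surjective _).mpr ⟨inferInstance, inferInstance⟩
  refine ⟨(asIso (Sigma.desc σ)).symm, fun i => ?_⟩
  simp [h1 i]

/-- Sections of a base change are lifts of the base. -/
noncomputable def sectionsEquiv {Z X B : Scheme.{u}} (h : Z ⟶ X) (ω : B ⟶ X) :
    {s : B ⟶ pullback h ω // s ≫ pullback.snd h ω = 𝟙 B} ≃ {a : B ⟶ Z // a ≫ h = ω} where
  toFun s := ⟨s.1 ≫ pullback.fst h ω, by
    rw [Category.assoc, pullback.condition, reassoc_of% s.2]⟩
  invFun a := ⟨pullback.lift a.1 (𝟙 B) (by rw [a.2, Category.id_comp]), pullback.lift_snd _ _ _⟩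
  left_inv s := Subtype.ext (pullback.hom_ext (pullback.lift_fst _ _ _)
    ((pullback.lift_snd _ _ _).trans s.2.symm))
  right_inv a := Subtype.ext (pullback.lift_fst _ _ _)

theorem natCard_points {Z X : Scheme.{u}} (h : Z ⟶ X) [IsFinite h] [Etale h]
    {K : Type u} [Field K] [IsAlgClosed K] (ω : Spec (CommRingCat.of K) ⟶ X) :
    Nat.card {a : Spec (CommRingCat.of K) ⟶ Z // a ≫ h = ω} =
      h.finrank (ω (IsLocalRing.closedPoint K)) := by
  rw [← Nat.card_congr (sectionsEquiv h ω), H63.FibreCount.natCard_sections,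
    Scheme.Hom.finrank_pullback_snd]

theorem finrank_comp_const {Z X S : Scheme.{u}} (g : Z ⟶ X) (f : X ⟶ S) [IsFinite g] [Etale g]
    [IsFinite f] [Etale f] {a b : ℕ} (ha : ∀ x, g.finrank x = a) (hb : ∀ s, f.finrank s = b)
    (ha0 : a ≠ 0) (hb0 : b ≠ 0) (s : S) : (g ≫ f).finrank s = b * a := by
  let K := AlgebraicClosure (S.residueField s)
  let ω : Spec (CommRingCat.of K) ⟶ S :=
    Spec.map (CommRingCat.ofHom (algebraMap (S.residueField s) K)) ≫ S.fromSpecResidueField s
  have hω : ω (IsLocalRing.closedPoint K) = s := by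
    rw [Scheme.Hom.comp_apply]
    exact Scheme.fromSpecResidueField_apply _ _
  have hf := natCard_points f ω
  rw [hb] at hf
  haveI : Finite {v : Spec (CommRingCat.of K) ⟶ X // v ≫ f = ω} :=
    Nat.finite_of_card_ne_zero (by omega)
  haveI := Fintype.ofFinite {v : Spec (CommRingCat.of K) ⟶ X // v ≫ f = ω}
  let e : {c : Spec (CommRingCat.of K) ⟶ Z // c ≫ g ≫ f = ω} ≃
      Σ v : {v : Spec (CommRingCat.of K) ⟶ X // v ≫ f = ω},
        {c : Spec (CommRingCat.of K) ⟶ Z // c ≫ g = v.1} :=
    { toFun := fun c => ⟨⟨c.1 ≫ g, by rw [Category.assoc]; exact c.2⟩, c.1, rfl⟩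
      invFun := fun p => ⟨p.2.1, by rw [← Category.assoc, p.2.2]; exact p.1.2⟩
      left_inv := fun c => rfl
      right_inv := by
        rintro ⟨⟨v, hv⟩, ⟨c, hc⟩⟩
        dsimp only at hc
        subst hc
        rfl }
  haveI : ∀ v : {v : Spec (CommRingCat.of K) ⟶ X // v ≫ f = ω},
      Finite {c : Spec (CommRingCat.of K) ⟶ Z // c ≫ g = v.1} := fun v =>
    Nat.finite_of_card_ne_zero (by rw [natCard_points, ha]; exact ha0)
  have h := natCard_points (g ≫ f) ω
  rw [hω, Nat.card_congr e, Nat.card_sigma, Finset.sum_congr rfl fun v _ => natCard_points g v.1] at h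
  rw [← h]
  simp [ha, ← Nat.card_eq_fintype_card, hf]

theorem exists_split : ∀ (n : ℕ) {X S : Scheme.{u}} (φ : X ⟶ S) [IsFinite φ] [Etale φ],
    (∀ s, φ.finrank s = n) →
    ∃ (Y : Scheme.{u}) (g : Y ⟶ S), IsFinite g ∧ Etale g ∧ Surjective g ∧
      (∀ s, g.finrank s = n.factorial) ∧
      ∃ σ : Fin n → (Y ⟶ pullback φ g), Split (pullback.snd φ g) σ
  | 0, X, S, φ, _, _, hr => by
    refine ⟨S, 𝟙 S, inferInstance, inferInstance, inferInstance, fun s => by simp [Scheme.Hom.finrank_eq_one_of_isIso],
      Fin.elim0, fun i => i.elim0, fun K _ z => ?_⟩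
    have h1 := Scheme.Hom.one_le_finrank_map φ ((z ≫ pullback.fst φ (𝟙 S)) (IsLocalRing.closedPoint K))
    rw [hr] at h1
    exact absurd h1 (by decide)
  | n + 1, X, S, φ, _, _, hr => by
    haveI : Surjective φ :=
      (Scheme.Hom.one_le_finrank_iff_surjective φ).mp fun s => by simp [hr s]
    let Δ : X ⟶ pullback φ φ := pullback.diagonal φ
    haveI : IsOpenImmersion Δ := inferInstanceAs (IsOpenImmersion (pullback.diagonal φ))
    have hΔcl : IsClosed (Set.range Δ) :=
      (inferInstance : IsClosedImmersion (pullback.diagonal φ)).isClosedEmbedding.isClosed_range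
    let U : (pullback φ φ).Opens := ⟨(Set.range Δ)ᶜ, hΔcl.isOpen_compl⟩
    haveI : IsClosedImmersion U.ι := IsClosedImmersion.of_isPreimmersion _ (by
      rw [Scheme.Opens.range_ι]
      exact (IsOpenImmersion.isOpen_range Δ).isClosed_compl)
    let q : (U : Scheme.{u}) ⟶ X := U.ι ≫ pullback.snd φ φ
    haveI : IsFinite q := inferInstanceAs (IsFinite (U.ι ≫ pullback.snd φ φ))
    haveI : Etale q := inferInstanceAs (Etale (U.ι ≫ pullback.snd φ φ))
    have hU : ∀ x : (U : Scheme.{u}), U.ι x ∉ Set.range Δ := fun x => x.2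
    have hrq : ∀ x, q.finrank x = n := by
      intro x
      let K := AlgebraicClosure (X.residueField x)
      let ω : Spec (CommRingCat.of K) ⟶ X :=
        Spec.map (CommRingCat.ofHom (algebraMap (X.residueField x) K)) ≫ X.fromSpecResidueField x
      have hω : ω (IsLocalRing.closedPoint K) = x := by
        rw [Scheme.Hom.comp_apply]
        exact Scheme.fromSpecResidueField_apply _ _
      have hq := natCard_points q ω
      have hp := natCard_points (pullback.snd φ φ) ω
      rw [Scheme.Hom.finrank_pullback_snd, hr] at hp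
      rw [hω] at hq
      let F : Option {a : Spec (CommRingCat.of K) ⟶ (U : Scheme.{u}) // a ≫ q = ω} →
          {a : Spec (CommRingCat.of K) ⟶ pullback φ φ // a ≫ pullback.snd φ φ = ω} :=
        fun o => o.elim ⟨ω ≫ Δ, by simp [Δ]⟩ fun a => ⟨a.1 ≫ U.ι, by rw [Category.assoc]; exact a.2⟩
      have hF : Function.Bijective F := by
        constructor
        · rintro (_ | a) (_ | b) e
          · rfl
          · exfalso
            have e' : ω ≫ Δ = b.1 ≫ U.ι := congrArg Subtype.val e
            exact hU (b.1 (IsLocalRing.closedPoint K)) ⟨ω (IsLocalRing.closedPoint K), by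
              rw [← Scheme.Hom.comp_apply, e', Scheme.Hom.comp_apply]⟩
          · exfalso
            have e' : a.1 ≫ U.ι = ω ≫ Δ := congrArg Subtype.val e
            exact hU (a.1 (IsLocalRing.closedPoint K)) ⟨ω (IsLocalRing.closedPoint K), by
              rw [← Scheme.Hom.comp_apply, ← e', Scheme.Hom.comp_apply]⟩
          · exact congrArg some (Subtype.ext ((cancel_mono U.ι).mp (congrArg Subtype.val e)))
        · rintro ⟨a, ha⟩
          by_cases h : a (IsLocalRing.closedPoint K) ∈ Set.range Δ
          · obtain ⟨v, rfl⟩ := exists_lift_of_apply_mem Δ a h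
            refine ⟨none, Subtype.ext ?_⟩
            have : v = ω := by simpa [Δ] using ha
            subst this
            rfl
          · obtain ⟨v, rfl⟩ := exists_lift_of_apply_mem U.ι a (by rw [Scheme.Opens.range_ι]; exact h)
            exact ⟨some ⟨v, by rw [← Category.assoc] ; exact ha⟩, rfl⟩
      haveI : Finite {a : Spec (CommRingCat.of K) ⟶ pullback φ φ // a ≫ pullback.snd φ φ = ω} :=
        Nat.finite_of_card_ne_zero (by omega)
      haveI : Finite {a : Spec (CommRingCat.of K) ⟶ (U : Scheme.{u}) // a ≫ q = ω} :=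
        Finite.of_injective _ (hF.1.comp (Option.some_injective _))
      rw [← Nat.card_congr (Equiv.ofBijective F hF), Finite.card_option] at hp
      omega
    obtain ⟨Y, g, _, _, _, hgr, t, ht1, ht2⟩ := exists_split n q hrq
    refine ⟨Y, g ≫ φ, inferInstance, inferInstance, inferInstance, fun s => ?_, ?_⟩
    · rw [finrank_comp_const g φ hgr hr n.factorial_ne_zero n.succ_ne_zero, Nat.factorial_succ]
    let j : pullback q g ⟶ pullback φ (g ≫ φ) :=
      pullback.lift (pullback.fst q g ≫ U.ι ≫ pullback.fst φ φ) (pullback.snd q g) (by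
        simp only [Category.assoc, pullback.condition (f := φ) (g := φ)]
        rw [← Category.assoc U.ι]
        exact pullback.condition_assoc φ)
    haveI : Mono j := by
      refine ⟨fun {W} a b e => ?_⟩
      have e2 : a ≫ pullback.snd q g = b ≫ pullback.snd q g := by
        simpa [j] using congrArg (fun m => m ≫ pullback.snd φ (g ≫ φ)) e
      have e1 : a ≫ pullback.fst q g ≫ U.ι ≫ pullback.fst φ φ =
          b ≫ pullback.fst q g ≫ U.ι ≫ pullback.fst φ φ := by
        simpa [j] using congrArg (fun m => m ≫ pullback.fst φ (g ≫ φ)) e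
      refine pullback.hom_ext ((cancel_mono U.ι).mp (pullback.hom_ext ?_ ?_)) e2
      · simpa only [Category.assoc] using e1
      · simp only [Category.assoc]
        rw [show U.ι ≫ pullback.snd φ φ = q from rfl, pullback.condition, reassoc_of% e2]
    let σ : Fin (n + 1) → (Y ⟶ pullback φ (g ≫ φ)) :=
      Fin.cons (pullback.lift g (𝟙 Y) (by simp)) fun i => t i ≫ j
    refine ⟨σ, fun i => ?_, fun K _ z => ?_⟩
    · refine Fin.cases ?_ (fun i => ?_) i
      · exact pullback.lift_snd _ _ _
      · simp [σ, j, ht1 i]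
    let b := z ≫ pullback.snd φ (g ≫ φ)
    let w : Spec (CommRingCat.of K) ⟶ pullback φ φ :=
      pullback.lift (z ≫ pullback.fst φ (g ≫ φ)) (b ≫ g) (by
        simp only [b, Category.assoc, pullback.condition])
    by_cases h : w (IsLocalRing.closedPoint K) ∈ Set.range Δ
    · obtain ⟨v, hv⟩ := exists_lift_of_apply_mem Δ w h
      have hv1 : v = z ≫ pullback.fst φ (g ≫ φ) := by
        simpa [Δ, w] using congrArg (fun m => m ≫ pullback.fst φ φ) hv
      have hv2 : v = b ≫ g := by
        simpa [Δ, w] using congrArg (fun m => m ≫ pullback.snd φ φ) hv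
      refine ⟨0, ?_, fun k hk => ?_⟩
      · apply pullback.hom_ext
        · simp [σ, ← hv1, hv2, b]
        · simp [σ]
      · revert hk
        refine Fin.cases (fun _ => rfl) (fun i hk => ?_) k
        exfalso
        have e : w = (b ≫ t i ≫ pullback.fst q g) ≫ U.ι := by
          apply pullback.hom_ext
          · simp only [w, pullback.lift_fst, Category.assoc]
            conv_lhs => rw [← hk]
            simp [σ, j, b]
          · simp only [w, pullback.lift_snd, Category.assoc]
            rw [show U.ι ≫ pullback.snd φ φ = q from rfl, pullback.condition, reassoc_of% (ht1 i)]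
        refine hU ((b ≫ t i ≫ pullback.fst q g) (IsLocalRing.closedPoint K)) ?_
        rw [← Scheme.Hom.comp_apply, ← e]
        exact h
    · obtain ⟨a, ha⟩ := exists_lift_of_apply_mem U.ι w (by rw [Scheme.Opens.range_ι]; exact h)
      let z' : Spec (CommRingCat.of K) ⟶ pullback q g := pullback.lift a b (by
        simp only [q]
        rw [reassoc_of% ha]
        exact pullback.lift_snd _ _ _)
      have hz' : z' ≫ j = z := by
        apply pullback.hom_ext
        · simp [z', j, reassoc_of% ha, w]
        · simp [z', j, b]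
      obtain ⟨i, hi, hun⟩ := ht2 K z'
      have hz's : z' ≫ pullback.snd q g = b := pullback.lift_snd _ _ _
      refine ⟨i.succ, ?_, fun k hk => ?_⟩
      · show z ≫ pullback.snd φ (g ≫ φ) ≫ (t i ≫ j) = z
        conv_rhs => rw [← hz', ← hi]
        simp [reassoc_of% hz's, b]
      · revert hk
        refine Fin.cases (fun hk => ?_) (fun l hk => ?_) k
        · exfalso
          apply h
          refine ⟨(b ≫ g) (IsLocalRing.closedPoint K), ?_⟩
          rw [← Scheme.Hom.comp_apply]
          refine congrArg (fun m : Spec (CommRingCat.of K) ⟶ pullback φ φ =>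
            m (IsLocalRing.closedPoint K)) ?_
          apply pullback.hom_ext
          · simp only [Category.assoc, Δ, pullback.diagonal_fst, Category.comp_id, w, pullback.lift_fst]
            conv_rhs => rw [← hk]
            simp [σ, b]
          · simp [Δ, w]
        · refine congrArg Fin.succ (hun l ?_)
          dsimp only
          rw [← cancel_mono j, hz']
          simp only [Category.assoc, reassoc_of% hz's]
          simpa [σ, b] using hk

end Groth.Agent.Lib.EtSplit.Basic
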